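import Groth.Agent.HopfLib.GITPoints
import Mathlib.RingTheory.TensorProduct.Free
import Mathlib.FieldTheory.IsAlgClosed.AlgebraicClosure
import Mathlib.RingTheory.PolynomialAlgebra

/-! Two embeddings of a transcendental extension, and an obstruction to covering them by a finite type algebra. -/

set_option autoImplicit false

universe u

noncomputable section

open Polynomial TensorProduct

namespace Groth.Agent.InjLift19

/-- A transcendental element of a finite type algebra over a field takes all but finitely many values. -/
theorem false_of_isUnit {L B : Type u} [Field L] [CommRing B] [Algebra L B] [Algebra.FiniteType L B] (s : B)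
    (hinj : Function.Injective (aeval s : L[X] →ₐ[L] B)) (T : Set L) (hT : T.Infinite)
    (hu : ∀ a ∈ T, IsUnit (s - algebraMap L B a)) : False := by
  let f : L[X] →+* B := (aeval s : L[X] →ₐ[L] B).toRingHom
  have hft : f.FiniteType := RingHom.FiniteType.of_comp_finiteType (f := Polynomial.C) (g := f) (by
    rw [show f.comp Polynomial.C = algebraMap L B from RingHom.ext fun a => aeval_C s a]
    exact RingHom.finiteType_algebraMap.2 inferInstance)
  obtain ⟨D, hDo, ⟨q, hq⟩, hD⟩ := Groth.Agent.HopfLib.exists_open_subset_range_comap f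
    (RingHom.FinitePresentation.of_finiteType.1 hft) hinj
  obtain ⟨_, ⟨h, rfl⟩, hqh, hhD⟩ :=
    PrimeSpectrum.isTopologicalBasis_basic_opens.exists_subset_of_mem_open hq hDo
  have hh : h ≠ 0 := fun e => hqh (e ▸ Submodule.zero_mem _)
  obtain ⟨a, haT, ha⟩ := (hT.sdiff (Polynomial.finite_setOf_isRoot hh)).nonempty
  have hmax : (Ideal.span {X - C a}).IsPrime :=
    (Ideal.span_singleton_prime (X_sub_C_ne_zero a)).2 (prime_X_sub_C a)
  have hmem : (⟨_, hmax⟩ : PrimeSpectrum L[X]) ∈ PrimeSpectrum.basicOpen h := fun hc =>
    ha (dvd_iff_isRoot.1 (Ideal.mem_span_singleton.1 hc))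
  obtain ⟨P, hP⟩ := hD (hhD hmem)
  have hs : f (X - C a) ∈ P.asIdeal := by
    have := congrArg PrimeSpectrum.asIdeal hP
    exact this.ge (Ideal.mem_span_singleton_self _)
  have he : f (X - C a) = s - algebraMap L B a := by
    show aeval s (X - C a) = _
    rw [map_sub, aeval_X, aeval_C]
  exact P.isPrime.ne_top (Ideal.eq_top_of_isUnit_mem _ (he ▸ hs) (hu a haT))

/-- Two embeddings over `k` of an extension into an algebraically closed field, transcendental over each other. -/
theorem exists_embeddings {k L : Type u} [Field k] [IsAlgClosed k] [Field L] [Algebra k L] (t : L)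
    (ht : t ∉ (algebraMap k L).range) :
    ∃ (Ω : Type u) (_ : Field Ω) (_ : IsAlgClosed Ω) (φ ψ : L →+* Ω),
      φ.comp (algebraMap k L) = ψ.comp (algebraMap k L) ∧
      Function.Injective (Polynomial.eval₂RingHom φ (ψ t)) := by
  have htr : Function.Injective (aeval t : k[X] →ₐ[k] L) := by
    rw [← transcendental_iff_injective]
    intro halg
    haveI := (IntermediateField.isAlgebraic_adjoin (S := {t}) fun x hx => (hx : x = t) ▸ halg.isIntegral)
    refine ht ?_
    obtain ⟨a, ha⟩ := IsAlgClosed.algebraMap_bijective_of_isIntegral (k := k)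
      (K := IntermediateField.adjoin k {t}) |>.2 ⟨t, IntermediateField.mem_adjoin_simple_self k t⟩
    exact ⟨a, congrArg Subtype.val ha⟩
  let R := L ⊗[k] L
  let f : L[X] →ₐ[L] R := aeval ((1 : L) ⊗ₜ[k] t)
  have hf : Function.Injective f := by
    have e : f.toRingHom = ((Algebra.TensorProduct.map (AlgHom.id k L) (aeval t : k[X] →ₐ[k] L))).toRingHom.comp
        (polyEquivTensor k L).toAlgHom.toRingHom := by
      refine Polynomial.ringHom_ext (fun a => ?_) ?_
      · simp [f, polyEquivTensor_apply, Algebra.TensorProduct.algebraMap_apply]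
        rfl
      · simp [f, polyEquivTensor_apply]
    show Function.Injective f.toRingHom
    rw [e]
    exact (Module.Flat.lTensor_preserves_injective_linearMap (M := L) (aeval t : k[X] →ₐ[k] L).toLinearMap htr).comp
      (polyEquivTensor k L).injective
  obtain ⟨p, hp, hpc⟩ := Ideal.exists_comap_eq_of_mem_minimalPrimes_of_injective (f := f.toRingHom) hf ⊥
    (IsDomain.minimalPrimes_eq_singleton_bot L[X] ▸ Set.mem_singleton _)
  haveI := hp
  let Ω := AlgebraicClosure p.ResidueField
  let m : R →+* Ω := (algebraMap p.ResidueField Ω).comp (algebraMap R p.ResidueField)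
  refine ⟨Ω, inferInstance, inferInstance, m.comp Algebra.TensorProduct.includeLeftRingHom,
    m.comp Algebra.TensorProduct.includeRight.toRingHom, ?_, ?_⟩
  · ext a
    exact congrArg m (Algebra.TensorProduct.includeLeft.commutes a |>.trans
      (Algebra.TensorProduct.includeRight.commutes a).symm)
  · have e : Polynomial.eval₂RingHom (m.comp Algebra.TensorProduct.includeLeftRingHom)
        ((m.comp Algebra.TensorProduct.includeRight.toRingHom) t) = m.comp f.toRingHom := by
      refine Polynomial.ringHom_ext (fun a => ?_) ?_
      · simp [f]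
        rfl
      · simp [f]
    rw [e, RingHom.injective_iff_ker_eq_bot, ← RingHom.comap_ker]
    refine (congrArg (Ideal.comap f.toRingHom) ?_).trans hpc
    rw [show m = (algebraMap p.ResidueField Ω).comp (algebraMap R p.ResidueField) from rfl,
      RingHom.ker_comp_of_injective _ (algebraMap p.ResidueField Ω).injective, Ideal.ker_algebraMap_residueField]

end Groth.Agent.InjLift19
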