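import Groth.Agent.InjLift19.Alg
import Groth.Agent.Stk19.AlgSt.UnivInj
import Groth.Agent.Stk19b.AlgClosedPts
import Groth.Agent.Stk19.AlgSt.FpAlg
import Groth.Agent.Stk19.AlgSt.AlgMisc
import Groth.Agent.Stk19b.LargestRep.Basic
import Groth.Agent.S12832
import Mathlib.AlgebraicGeometry.AlgClosed.Basic

/-! Rational points of stacks with surjective diagonal over an algebraically closed field. -/

set_option autoImplicit false
set_option linter.style.haveILetI false
set_option backward.isDefEq.respectTransparency false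
set_option backward.isDefEq.respectTransparency.types false

universe u

open CategoryTheory CategoryTheory.Limits AlgebraicGeometry Opposite FibCat
open Groth.Agent.Stk19 Groth.Agent.Desc19

noncomputable section

namespace Groth.Agent.InjLift19

variable {S : Scheme.{u}}

/-- Lifts of geometric points along etale surjective charts. -/
theorem exists_chart_lift {F : AlgSp.Sp S} {W : Over S} (p : (AlgSp.yon S).obj W ⟶ F)
    (hpe : AlgSp.RepWith @Etale p) (hps : AlgSp.RepWith @Surjective p)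
    (Ω : Type u) [Field Ω] [IsAlgClosed Ω] (sΩ : Spec (CommRingCat.of Ω) ⟶ S)
    (τ : (AlgSp.yon S).obj (Over.mk sΩ) ⟶ F) :
    ∃ w : Over.mk sΩ ⟶ W, (AlgSp.yon S).map w ≫ p = τ := by
  have sq := hpe.1.isPullback τ
  set V := hpe.1.pullback τ
  let c : V ⟶ Over.mk sΩ := hpe.1.snd τ
  let c' : V.left ⟶ Spec (CommRingCat.of Ω) := c.left
  haveI : Etale c' := hpe.property_snd _
  haveI : Surjective c' := hps.property_snd _
  haveI : JacobsonSpace ↥V.left := LocallyOfFiniteType.jacobsonSpace c'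
  obtain ⟨t, -⟩ := c'.surjective (IsLocalRing.closedPoint Ω)
  obtain ⟨x, -, hx⟩ := nonempty_inter_closedPoints (Z := (Set.univ : Set ↥V.left)) ⟨t, trivial⟩
    isClosed_univ.isLocallyClosed
  obtain ⟨v, hv⟩ := (pointEquivClosedPoint (K := Ω) c').symm ⟨x, hx⟩
  let σ : Over.mk sΩ ⟶ V := Over.homMk v (by
    show v ≫ V.hom = sΩ
    rw [← Over.w c, ← Category.assoc]
    exact (congrArg (· ≫ sΩ) hv).trans (Category.id_comp _))
  obtain ⟨w, hw⟩ := (AlgSp.yon S).map_surjective ((AlgSp.yon S).map σ ≫ hpe.1.fst τ)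
  refine ⟨w, ?_⟩
  rw [hw, Category.assoc, sq.w, ← Category.assoc, ← Functor.map_comp,
    show σ ≫ hpe.1.snd τ = 𝟙 _ from Over.OverMorphism.ext hv, CategoryTheory.Functor.map_id, Category.id_comp]

theorem eq_of_eqToHom_comp {C : Type*} [Category C] {a b c a' w y : C} (e₀ : a' = c) (e₁ : c = b) (e₂ : a' = a)
    (e₃ : w = b) (e₄ : w = a) {f : b ⟶ y} {g : a ⟶ y} (H : eqToHom e₀ ≫ eqToHom e₁ ≫ f = eqToHom e₂ ≫ g) :
    eqToHom e₃ ≫ f = eqToHom e₄ ≫ g := by
  subst e₀ e₁ e₂ e₃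
  simpa using H

/-- An atlas of a stack with surjective diagonal over an algebraically closed field has a rational point. -/
theorem exists_rational {k : Type u} [Field k] [IsAlgClosed k] {s : Spec (CommRingCat.of k) ⟶ S}
    {Z : AlgSt.Cat S} (hZ : AlgSt.IsAlgStack Scheme.fppfPrecoverage Z)
    (c : Z ⥤ᵇ overCat (Over.mk s)) (hc : AlgSt.IsSurjective (FibCat.diag c))
    {U : Over S} (x : overCat U ⥤ᵇ Z) (hx : AlgSt.RepByAlgSpWith (AlgSp.LocP @Smooth) x)
    (hne : Nonempty ↥U.left) :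
    ∃ σ : Over.mk s ⟶ U, ((BasedFunctor.comp x c).obj (Over.mk σ)).hom =
      eqToHom ((BasedFunctor.comp x c).w_obj (Over.mk σ)) := by
  let C := BasedFunctor.comp x c
  let o : (overCat U).obj := Over.mk (𝟙 U)
  let cU : U ⟶ Over.mk s := eqToHom (C.w_obj o).symm ≫ (C.obj o).hom
  have hCo : ∀ X : (overCat U).obj, (C.obj X).hom = eqToHom (C.w_obj X) ≫ X.hom ≫ cU := by
    intro X
    refine (Over.w (C.map (toId X))).symm.trans ?_
    rw [show (C.map (toId X)).left = _ from based_map C (toId X)]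
    simp only [cU, Category.assoc]
    rfl
  have hC : ∀ {T : Over S} (σ : T ⟶ U), (C.obj (Over.mk σ)).hom = eqToHom (C.w_obj (Over.mk σ)) ≫ σ ≫ cU :=
    fun σ => hCo (Over.mk σ)
  obtain ⟨_, ⟨V, hV, rfl⟩, htV, -⟩ := U.left.isBasis_affineOpens.exists_subset_of_mem_open
    (Set.mem_univ hne.some) isOpen_univ
  haveI : Nonempty V := ⟨⟨_, htV⟩⟩
  haveI : Nontrivial Γ(U.left, V) := Scheme.component_nontrivial U.left V
  obtain ⟨m, hm⟩ := Ideal.exists_maximal Γ(U.left, V)
  let L := Γ(U.left, V) ⧸ m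
  letI : Field L := Ideal.Quotient.field m
  let qm : Γ(U.left, V) ⟶ CommRingCat.of L := CommRingCat.ofHom (Ideal.Quotient.mk m)
  let i : Spec (CommRingCat.of L) ⟶ U.left := Spec.map qm ≫ hV.fromSpec
  let T : Over S := Over.mk (i ≫ U.hom)
  let ι : T ⟶ U := Over.homMk i rfl
  let γ : CommRingCat.of k ⟶ CommRingCat.of L := Spec.preimage (ι ≫ cU).left
  by_cases hbij : Function.Bijective γ.hom
  · haveI : IsIso γ := (ConcreteCategory.isIso_iff_bijective _).2 hbij
    have hγ : Spec.map (inv γ) ≫ i ≫ cU.left = 𝟙 _ := by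
      show Spec.map (inv γ) ≫ (ι ≫ cU).left = _
      rw [← Spec.map_preimage (ι ≫ cU).left, ← Spec.map_comp, IsIso.hom_inv_id, Spec.map_id]
    let σ : Over.mk s ⟶ U := Over.homMk (Spec.map (inv γ) ≫ i) (by
      show (Spec.map (inv γ) ≫ i) ≫ U.hom = s
      rw [← Over.w cU]
      simp only [← Category.assoc]
      exact (congrArg (· ≫ s) ((Category.assoc _ _ _).trans hγ)).trans (Category.id_comp _))
    refine ⟨σ, (hC σ).trans ?_⟩
    rw [show σ ≫ cU = 𝟙 _ from Over.OverMorphism.ext ((Category.assoc _ _ _).trans hγ)]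
    exact Category.comp_id _
  exfalso
  letI : Algebra k L := γ.hom.toAlgebra
  obtain ⟨t, ht⟩ : ∃ t : L, t ∉ (algebraMap k L).range := by
    by_contra h
    push Not at h
    exact hbij ⟨γ.hom.injective, fun t => h t⟩
  obtain ⟨Ω, _, _, φ, ψ, hφψ, hinj⟩ := exists_embeddings t ht
  let sΩ : Spec (CommRingCat.of Ω) ⟶ S := Spec.map (CommRingCat.ofHom φ) ≫ T.hom
  let pφ : Over.mk sΩ ⟶ T := Over.homMk (Spec.map (CommRingCat.ofHom φ)) rfl
  have hcomp : Spec.map (CommRingCat.ofHom φ) ≫ (ι ≫ cU).left =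
      Spec.map (CommRingCat.ofHom ψ) ≫ (ι ≫ cU).left := by
    rw [← Spec.map_preimage (ι ≫ cU).left, ← Spec.map_comp, ← Spec.map_comp]
    exact congrArg Spec.map (CommRingCat.hom_ext hφψ)
  let pψ : Over.mk sΩ ⟶ T := Over.homMk (Spec.map (CommRingCat.ofHom ψ)) (by
    show Spec.map (CommRingCat.ofHom ψ) ≫ T.hom = Spec.map (CommRingCat.ofHom φ) ≫ T.hom
    rw [← Over.w (ι ≫ cU), ← Category.assoc, ← hcomp, Category.assoc])
  have hcc : (pφ ≫ ι) ≫ cU = (pψ ≫ ι) ≫ cU := by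
    rw [Category.assoc, Category.assoc]
    exact Over.OverMorphism.ext hcomp
  let aφ := x.obj (Over.mk (pφ ≫ ι))
  let aψ := x.obj (Over.mk (pψ ≫ ι))
  let β : c.obj aφ ⟶ c.obj aψ := Over.homMk
    (eqToHom ((C.w_obj (Over.mk (pφ ≫ ι))).trans (C.w_obj (Over.mk (pψ ≫ ι))).symm)) (by
      show eqToHom _ ≫ (C.obj (Over.mk (pψ ≫ ι))).hom = (C.obj (Over.mk (pφ ≫ ι))).hom
      rw [hC, hC, hcc]
      simp)
  have hβ : (overCat (Over.mk s)).p.IsHomLift (𝟙 (Over.mk sΩ)) β := IsHomLift.of_fac' _ _ _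
    (C.w_obj (Over.mk (pφ ≫ ι))) (C.w_obj (Over.mk (pψ ≫ ι))) (by
      rw [Category.id_comp, eqToHom_trans]
      rfl)
  obtain ⟨α, hα, -⟩ := (Groth.Agent.S12832.result hZ (isAlgStack_overCat (Over.mk s)) c).1 hc Ω sΩ aφ aψ
    (x.w_obj _) (x.w_obj _) β hβ
  let G : overCat T ⥤ᵇ Z := BasedFunctor.comp (AlgSt.overMap ι) x
  obtain ⟨F, e, he, ha⟩ := hx T G
  obtain ⟨-, -, hess⟩ := EqvData.of_isEquivOver he
  let P : (fp G x).obj := by
    haveI := fibGrpd_isIso_vert hZ.isStack.1 (R := Over.mk sΩ) α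
    exact ⟨⟨Over.mk pφ, Over.mk (pψ ≫ ι), asIso α⟩, hα⟩
  obtain ⟨tP, j, hj⟩ := hess P
  obtain ⟨W, p, hpe, hps⟩ := F.property.atlas
  let tW : (AlgSt.ofSp F.obj).obj := ⟨W, GrothendieckTopology.uliftYonedaEquiv.{u + 1} (AlgSp.J S) p⟩
  let Φ := BasedFunctor.comp e (fpFst G x)
  let h : W ⟶ T := AlgSt.secHom Φ tW
  haveI hsm : Smooth h.left := ha p (𝟙 _) h hpe (AlgSp.repWith_id _ _) (by
    rw [Category.comp_id]
    apply (GrothendieckTopology.uliftYonedaEquiv.{u + 1} (AlgSp.J S)).injective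
    rw [GrothendieckTopology.uliftYonedaEquiv_comp, GrothendieckTopology.uliftYonedaEquiv_uliftYoneda_map]
    rfl)
  let Ψ := BasedFunctor.comp e (fpSnd G x)
  let l : W ⟶ U := eqToHom (Ψ.w_obj tW).symm ≫ (Ψ.obj tW).hom
  have etP : tP.base = Over.mk sΩ := (e.w_obj tP).symm.trans (eq_of_vert _ j.hom hj)
  obtain ⟨w, hw⟩ := exists_chart_lift p hpe hps Ω sΩ
    ((GrothendieckTopology.uliftYonedaEquiv.{u + 1} (AlgSp.J S)).symm (F.obj.obj.map (eqToHom etP.symm).op tP.sec))
  let kk : tP ⟶ tW := ⟨eqToHom etP ≫ w, by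
    have h0 := congrArg (GrothendieckTopology.uliftYonedaEquiv.{u + 1} (AlgSp.J S)) hw
    rw [← GrothendieckTopology.uliftYonedaEquiv_naturality, Equiv.apply_symm_apply] at h0
    show F.obj.obj.map (eqToHom etP ≫ w).op _ = _
    rw [op_comp, Functor.map_comp_apply]
    refine (congrArg _ h0).trans ?_
    rw [← Functor.map_comp_apply, ← op_comp, eqToHom_trans, eqToHom_refl, op_id, Functor.map_id_apply]⟩
  let K : P ⟶ e.obj tW := j.inv ≫ e.map kk
  have hKp : (fp G x).p.map K = w ≫ eqToHom (e.w_obj tW).symm := by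
    haveI : (fp G x).p.IsHomLift (𝟙 ((fp G x).p.obj (e.obj tP))) j.inv :=
      vert_change _ _ (vert_inv _ j hj) ((eq_of_vert _ j.hom hj).symm)
    have hj' := map_eq_of_vert (fp G x).p (R := (fp G x).p.obj (e.obj tP)) j.inv
    rw [Functor.map_comp, based_map e, hj']
    show eqToHom _ ≫ eqToHom _ ≫ (eqToHom etP ≫ w) ≫ eqToHom _ = _
    simp
  have hwφ : w ≫ h = pφ := by
    refine Eq.trans ?_ (Over.w K.hom.fst)
    show w ≫ eqToHom _ ≫ (Φ.obj tW).hom = (fp G x).p.map K ≫ _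
    rw [hKp, Category.assoc]
    rfl
  have hwψ : w ≫ l = pψ ≫ ι := by
    refine Eq.trans ?_ (Over.w K.hom.snd)
    have e2 : K.hom.snd.left = (overCat U).p.map ((fpSnd G x).map K) := rfl
    show w ≫ eqToHom _ ≫ (Ψ.obj tW).hom = K.hom.snd.left ≫ _
    rw [e2, based_map (fpSnd G x), hKp]
    simp
    rfl
  let w' : Spec (CommRingCat.of Ω) ⟶ W.left := w.left
  let h' : W.left ⟶ Spec (CommRingCat.of L) := h.left
  let l' : W.left ⟶ U.left := l.left
  have e₁ : w' ≫ h' = Spec.map (CommRingCat.ofHom φ) := congrArg (fun f => f.left) hwφ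
  have e₂ : w' ≫ l' = Spec.map (CommRingCat.ofHom ψ) ≫ Spec.map qm ≫ hV.fromSpec :=
    congrArg (fun f => f.left) hwψ
  let P₀ := w' (IsLocalRing.closedPoint Ω)
  have hP₀ : l' P₀ ∈ V := by
    show (w' ≫ l') (IsLocalRing.closedPoint Ω) ∈ V
    rw [e₂]
    have := Set.mem_range_self (f := hV.fromSpec) ((Spec.map (CommRingCat.ofHom ψ) ≫ Spec.map qm)
      (IsLocalRing.closedPoint Ω))
    rw [hV.range_fromSpec] at this
    exact this
  obtain ⟨_, ⟨W₀, hW₀, rfl⟩, hPW, hWV⟩ := W.left.isBasis_affineOpens.exists_subset_of_mem_open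
    hP₀ (l' ⁻¹ᵁ V).2
  have hr : Set.range w' ⊆ Set.range hW₀.fromSpec := by
    rintro _ ⟨z, rfl⟩
    rw [hW₀.range_fromSpec, Subsingleton.elim z (IsLocalRing.closedPoint Ω)]
    exact hPW
  let w₀ := IsOpenImmersion.lift hW₀.fromSpec w' hr
  haveI : Smooth h' := hsm
  have hft : RingHom.FiniteType (Spec.preimage (hW₀.fromSpec ≫ h')).hom := by
    refine (HasRingHomProperty.Spec_iff (P := @LocallyOfFiniteType)).1 ?_
    rw [Spec.map_preimage]
    infer_instance
  let B₀ := Γ(W.left, W₀)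
  let la : Γ(U.left, V) →+* B₀ := (l'.appLE V W₀ hWV).hom
  let lh : L →+* B₀ := (Spec.preimage (hW₀.fromSpec ≫ h')).hom
  let ω : B₀ →+* Ω := (Spec.preimage w₀).hom
  have hω₁ : ω.comp lh = φ := by
    refine congrArg CommRingCat.Hom.hom (Spec.map_injective (?_ :
      Spec.map (Spec.preimage (hW₀.fromSpec ≫ h') ≫ Spec.preimage w₀) = Spec.map (CommRingCat.ofHom φ)))
    rw [Spec.map_comp, Spec.map_preimage, Spec.map_preimage, IsOpenImmersion.lift_fac_assoc, e₁]
  have hω₂ : ω.comp la = ψ.comp (Ideal.Quotient.mk m) := by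
    refine congrArg CommRingCat.Hom.hom (Spec.map_injective (?_ :
      Spec.map (l'.appLE V W₀ hWV ≫ Spec.preimage w₀) = Spec.map (qm ≫ CommRingCat.ofHom ψ)))
    rw [← cancel_mono hV.fromSpec, Spec.map_comp, Spec.map_comp, Category.assoc, Category.assoc,
      IsAffineOpen.SpecMap_appLE_fromSpec l' hV hW₀ hWV, Spec.map_preimage, IsOpenImmersion.lift_fac_assoc, e₂]
  let I : Ideal B₀ := m.map la
  have hI : ∀ b ∈ I, ω b = 0 := fun b hb => by
    refine (Ideal.map_le_iff_le_comap.2 (fun a ha => ?_) hb : b ∈ RingHom.ker ω)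
    show ω.comp la a = 0
    rw [hω₂, RingHom.comp_apply, Ideal.Quotient.eq_zero_iff_mem.2 ha, map_zero]
  let ω' : B₀ ⧸ I →+* Ω := Ideal.Quotient.lift I ω hI
  let φ₂ : L →+* B₀ ⧸ I := Ideal.Quotient.lift m ((Ideal.Quotient.mk I).comp la) fun a ha =>
    Ideal.Quotient.eq_zero_iff_mem.2 (Ideal.mem_map_of_mem la ha)
  letI : Algebra L (B₀ ⧸ I) := ((Ideal.Quotient.mk I).comp lh).toAlgebra
  haveI : Algebra.FiniteType L (B₀ ⧸ I) :=
    RingHom.finiteType_algebraMap.1 ((RingHom.FiniteType.of_surjective _ Ideal.Quotient.mk_surjective).comp hft)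
  have hψ : ω' (φ₂ t) = ψ t := by
    obtain ⟨a, rfl⟩ := Ideal.Quotient.mk_surjective t
    exact RingHom.congr_fun hω₂ a
  have hinj' : Function.Injective (Polynomial.aeval (φ₂ t) : Polynomial L →ₐ[L] B₀ ⧸ I) := by
    refine Function.Injective.of_comp (f := ω') ?_
    convert hinj using 1
    funext f
    show ω'.comp (Polynomial.aeval (φ₂ t) : Polynomial L →ₐ[L] B₀ ⧸ I).toRingHom f = _
    congr 1
    refine Polynomial.ringHom_ext (fun a => ?_) ?_
    · simp
      exact RingHom.congr_fun hω₁ a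
    · simp [hψ]
  have hk : ∀ a : k, φ₂ (algebraMap k L a) = algebraMap L (B₀ ⧸ I) (algebraMap k L a) := by
    have hlc : l ≫ cU = h ≫ ι ≫ cU := by
      set Q := e.obj tW
      haveI hv : Z.p.IsHomLift (𝟙 _) Q.obj.iso.hom := Q.property
      haveI := BasedFunctor.preserves_isHomLift c (𝟙 ((overCat T).p.obj Q.obj.fst)) Q.obj.iso.hom
      have hm := map_eq_of_vert (overCat (Over.mk s)).p (R := (overCat T).p.obj Q.obj.fst) (c.map Q.obj.iso.hom)
      have H := Over.w (c.map Q.obj.iso.hom)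
      rw [show (c.map Q.obj.iso.hom).left = _ from hm] at H
      have h1 := hCo ((AlgSt.overMap ι).obj Q.obj.fst)
      have h2 := hCo Q.obj.snd
      change eqToHom _ ≫ (C.obj Q.obj.snd).hom = (C.obj ((AlgSt.overMap ι).obj Q.obj.fst)).hom at H
      rw [h1, h2] at H
      refine (Category.assoc _ _ _).trans (Eq.trans ?_ (Category.assoc _ _ _).symm)
      refine (eq_of_eqToHom_comp _ _ _ _ _ H).trans (congrArg (eqToHom (Φ.w_obj tW).symm ≫ ·) ?_)
      exact Category.assoc _ _ _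
    have E : Spec.map (l'.appLE V W₀ hWV) ≫ hV.fromSpec ≫ cU.left =
        Spec.map (Spec.preimage (hW₀.fromSpec ≫ h')) ≫ (ι ≫ cU).left := by
      rw [Spec.map_preimage, ← Category.assoc, IsAffineOpen.SpecMap_appLE_fromSpec l' hV hW₀ hWV,
        Category.assoc, Category.assoc]
      exact congrArg (hW₀.fromSpec ≫ ·) (congrArg (fun f => f.left) hlc)
    have E' : Spec.preimage (hV.fromSpec ≫ cU.left) ≫ qm = γ := by
      refine Spec.map_injective ?_
      rw [Spec.map_comp, Spec.map_preimage, Spec.map_preimage]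
      rfl
    have E'' : Spec.preimage (hV.fromSpec ≫ cU.left) ≫ l'.appLE V W₀ hWV = γ ≫ Spec.preimage (hW₀.fromSpec ≫ h') := by
      refine Spec.map_injective ?_
      rw [Spec.map_comp, Spec.map_comp, Spec.map_preimage (ι ≫ cU).left, Spec.map_preimage]
      exact E
    intro a
    rw [show algebraMap k L a = Ideal.Quotient.mk m ((Spec.preimage (hV.fromSpec ≫ cU.left)).hom a) from
      RingHom.congr_fun (congrArg CommRingCat.Hom.hom E') a |>.symm]
    refine (congrArg (Ideal.Quotient.mk I) (RingHom.congr_fun (congrArg CommRingCat.Hom.hom E'') a)).trans ?_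
    show _ = Ideal.Quotient.mk I (lh _)
    exact congrArg (fun b => Ideal.Quotient.mk I (lh b))
      (RingHom.congr_fun (congrArg CommRingCat.Hom.hom E') a).symm
  refine false_of_isUnit (φ₂ t) hinj' (Set.range (algebraMap k L))
    (Set.infinite_range_of_injective (algebraMap k L).injective) ?_
  rintro _ ⟨a, rfl⟩
  rw [← hk, ← map_sub]
  exact (sub_ne_zero.2 fun e => ht ⟨a, e.symm⟩).isUnit.map φ₂

end Groth.Agent.InjLift19
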